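import Groth.Agent.L14.GITProper.Orbit
import Mathlib.AlgebraicGeometry.Morphisms.Finite

/-!
# Closed actions with finite stabilisers on affine schemes have finite orbit map
-/

set_option autoImplicit false
set_option linter.style.haveILetI false
set_option backward.isDefEq.respectTransparency false
set_option backward.isDefEq.respectTransparency.types false

noncomputable section

universe u

open CategoryTheory MonoidalCategory CartesianMonoidalCategory MonObj AlgebraicGeometry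

namespace Groth.L14.GITProper

variable {k : Type u} [Field k] [CharZero k] {G X : Over (Spec (CommRingCat.of k))} [GrpObj G]

/-- A constant which vanishes at a point of a field spectrum is zero. -/
theorem eq_zero_of_notMem {Ω : Type u} [Field Ω] {T : Scheme.{u}} (eT : T ≅ Spec (CommRingCat.of Ω)) (d : Γ(T, ⊤))
    (p : T) (hd : p ∉ T.basicOpen d) : d = 0 := by
  by_contra hne
  let φ : Γ(T, ⊤) →+* Ω := (eT.inv.appTop ≫ (Scheme.ΓSpecIso (CommRingCat.of Ω)).hom).hom
  have hφ : Function.Bijective φ :=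
    ConcreteCategory.bijective_of_isIso (eT.inv.appTop ≫ (Scheme.ΓSpecIso (CommRingCat.of Ω)).hom)
  have hu : IsUnit d :=
    (isUnit_map_iff (RingEquiv.ofBijective φ hφ) d).1
      (isUnit_iff_ne_zero.2 fun h0 => hne (hφ.1 (h0.trans (map_zero φ).symm)))
  exact hd (by rw [Scheme.basicOpen_of_isUnit _ hu]; trivial)

/-- Two disjoint invariant closed sets cannot both meet a fibre over a field of a universal categorical quotient. -/
theorem not_disjoint_of_field (hG : Red.IsReductive G) {Ω : Type u} [Field Ω] {T : Over (Spec (CommRingCat.of k))}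
    (eT : T.left ≅ Spec (CommRingCat.of Ω)) [IsAffine X.left] (a : AlgGrp.Action G X) (φ : X ⟶ T)
    (hq : GIT.IsUnivCatQuot a φ) (W₁ W₂ : Set X.left) (h₁ : IsClosed W₁) (h₂ : IsClosed W₂)
    (hi₁ : a.act.left.base '' ((snd G X).left.base ⁻¹' W₁) ⊆ W₁)
    (hi₂ : a.act.left.base '' ((snd G X).left.base ⁻¹' W₂) ⊆ W₂) (hn₁ : W₁.Nonempty) (hn₂ : W₂.Nonempty) :
    ¬ Disjoint W₁ W₂ := by
  intro hd
  obtain ⟨f, hf, hf₁, hf₂⟩ :=
    Groth.L14.GITAff.exists_invariant_separating G X hG a W₁ W₂ h₁ h₂ hi₁ hi₂ hd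
  obtain ⟨-, hran⟩ := Groth.L18.GITQ.sections_of_isUnivCatQuot hq ⊤
  obtain ⟨c₀, hc₀⟩ := hran.ge ((Groth.L14.GITAff.isInvSection_top_iff φ f).2 hf)
  obtain ⟨w₁, hw₁⟩ := hn₁
  obtain ⟨w₂, hw₂⟩ := hn₂
  have h1 := hf₁ hw₁
  have h2 := hf₂ hw₂
  rw [Scheme.zeroLocus_singleton, Set.mem_compl_iff, SetLike.mem_coe] at h1 h2
  have hc1 : c₀ = 0 := eq_zero_of_notMem eT c₀ (φ.left.base w₁) fun hm => by
    apply h1
    rw [← hc₀]
    exact (Scheme.preimage_basicOpen_top φ.left c₀).le hm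
  have hc2 : (1 : Γ(T.left, ⊤)) - c₀ = 0 := eq_zero_of_notMem eT _ (φ.left.base w₂) fun hm => by
    apply h2
    rw [← hc₀]
    have := (Scheme.preimage_basicOpen_top φ.left (1 - c₀)).le hm
    rwa [map_sub, map_one] at this
  rw [hc1, sub_zero] at hc2
  haveI : Nontrivial Γ(T.left, ⊤) :=
    (eT.inv.appTop ≫ (Scheme.ΓSpecIso (CommRingCat.of Ω)).hom).hom.domain_nontrivial
  exact one_ne_zero hc2

/-- **Finiteness of the orbit map.** -/
theorem isFinite_psi (hG : Red.IsReductive G) [IsAffine X.left] [LocallyOfFiniteType X.hom]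
    (a : AlgGrp.Action G X) (hc : GIT.IsClosedAction a)
    [LocallyQuasiFinite (Limits.pullback.snd (GIT.psi a (𝟙 X)).left (lift (𝟙 X) (𝟙 X)).left)] :
    IsFinite (GIT.psi a (𝟙 X)).left := by
  haveI : Smooth G.hom := hG.2.1
  haveI : IsAffineHom G.hom := hG.1
  haveI : IsAffine G.left := isAffine_of_isAffineHom G.hom
  haveI : IsAffine (G ⊗ X).left := isAffine_tensor G X
  haveI : IsAffine (X ⊗ X).left := isAffine_tensor X X
  set f := GIT.psi a (𝟙 X) with hf
  haveI : LocallyOfFiniteType f.left := by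
    haveI : LocallyOfFiniteType (f.left ≫ (snd X X).left) := by
      rw [← Over.comp_left, hf, GIT.psi, lift_snd]; infer_instance
    exact locallyOfFiniteType_of_comp _ (snd X X).left
  haveI : LocallyQuasiFinite f.left := locallyQuasiFinite_psi a
  obtain ⟨aN, hN1, hN2⟩ := exists_action f (aP := trAct X) (aQ := fstAct a X) (psi_equivariant a (𝟙 X))
  haveI : IsOpenImmersion (toN f).left := inferInstanceAs (IsOpenImmersion f.left.toNormalization)
  haveI : IsAffine (normObj f).left := isAffine_of_isAffineHom f.left.fromNormalization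
  set D := (Set.range (toN f).left.base)ᶜ with hD
  suffices hempty : ∀ d, d ∉ D by
    haveI : Surjective (toN f).left := ⟨fun d => not_not.1 (hempty d)⟩
    haveI : IsIso (toN f).left := (isIso_iff_isOpenImmersion_and_epi_base _).2
      ⟨inferInstance, (TopCat.epi_iff_surjective _).2 (toN f).left.surjective⟩
    haveI : IsIntegralHom f.left := by
      rw [← toN_fromN f, Over.comp_left]; infer_instance
    exact (IsFinite.iff_isIntegralHom_and_locallyOfFiniteType _).2 ⟨inferInstance, inferInstance⟩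
  intro d₀ hd₀
  have hf2 : f ≫ snd X X = snd G X := by rw [hf, GIT.psi, lift_snd]
  have hf1 : f ≫ fst X X = a.act := by
    rw [hf, GIT.psi, lift_fst, whiskerLeft_id, Category.id_comp]
  -- the quotient of the normalisation is the projection
  let p : normObj f ⟶ X := fromN f ≫ snd X X
  have hpinv : GIT.IsInvariant aN p := by
    show aN.act ≫ fromN f ≫ snd X X = snd G (normObj f) ≫ fromN f ≫ snd X X
    rw [reassoc_of% hN1, fstAct_snd, whiskerLeft_snd_assoc]
  obtain ⟨Y₀, φ₀, hY₀, -, -, hu₀, -, -, -⟩ := Groth.L14.GITAff.exists_univCatQuot_affine G (normObj f) hG aN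
  haveI : IsAffineHom Y₀.hom := by
    haveI := hY₀
    infer_instance
  obtain ⟨χ, hχ, -⟩ := hu₀.1.2 X p hpinv
  let χ' : X ⟶ Y₀ := lift (1 : X ⟶ G) (𝟙 X) ≫ toN f ≫ φ₀
  have h1χ : χ' ≫ χ = 𝟙 X := by
    show (lift (1 : X ⟶ G) (𝟙 X) ≫ toN f ≫ φ₀) ≫ χ = 𝟙 X
    rw [Category.assoc, Category.assoc, hχ]
    show lift (1 : X ⟶ G) (𝟙 X) ≫ toN f ≫ fromN f ≫ snd X X = 𝟙 X
    rw [toN_fromN_assoc, hf2, lift_snd]
  have h2χ : χ ≫ χ' = 𝟙 Y₀ := by
    refine (hu₀.1.2 Y₀ φ₀ hu₀.1.1).unique ?_ (Category.comp_id _)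
    show φ₀ ≫ χ ≫ χ' = φ₀
    rw [← Category.assoc, hχ]
    refine hom_ext_affine f ?_
    show toN f ≫ (fromN f ≫ snd X X) ≫ lift (1 : X ⟶ G) (𝟙 X) ≫ toN f ≫ φ₀ = toN f ≫ φ₀
    simp only [Category.assoc, toN_fromN_assoc]
    rw [reassoc_of% hf2, comp_lift_assoc, Category.comp_id, MonObj.comp_one]
    have hinv : (trAct X).act ≫ toN f ≫ φ₀ = snd G (G ⊗ X) ≫ toN f ≫ φ₀ := by
      rw [reassoc_of% hN2, hu₀.1.1, whiskerLeft_snd_assoc]
    have := congrArg (lift (fst G X) (lift (1 : G ⊗ X ⟶ G) (snd G X)) ≫ ·) hinv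
    simp only [lift_snd_assoc] at this
    rw [← Category.assoc, show lift (fst G X) (lift (1 : G ⊗ X ⟶ G) (snd G X)) ≫ (trAct X).act = 𝟙 _ by
      show lift _ _ ≫ (α_ G G X).inv ≫ (μ[G] ▷ X) = _
      rw [mul_translate, _root_.mul_one, lift_fst_snd], Category.id_comp] at this
    exact this.symm
  have hpu : GIT.IsUnivCatQuot aN p := by
    have hcat : GIT.IsCatQuot aN (φ₀ ≫ χ) := by
      rw [hχ]
      refine ⟨hpinv, fun Z ψ hψ => ?_⟩
      obtain ⟨u, hu, huniq⟩ := hu₀.1.2 Z ψ hψ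
      refine ⟨χ' ≫ u, ?_, fun u' hu' => ?_⟩
      · show p ≫ χ' ≫ u = ψ
        rw [← hχ, Category.assoc, reassoc_of% h2χ, hu]
      · have := huniq (χ ≫ u') (by show φ₀ ≫ χ ≫ u' = ψ; rw [← Category.assoc, hχ]; exact hu')
        rw [← this, reassoc_of% h1χ]
    have := Groth.L14.GITAff.isUnivCatQuot_comp_iso ⟨χ, χ', h2χ, h1χ⟩ hu₀ hcat
    rwa [show φ₀ ≫ χ = p from hχ] at this
  -- base change to a geometric point under the bad point
  let Ω := AlgebraicClosure ((normObj f).left.residueField d₀)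
  let i : Spec (CommRingCat.of Ω) ⟶ (normObj f).left :=
    Spec.map (CommRingCat.ofHom (algebraMap ((normObj f).left.residueField d₀) Ω)) ≫
      (normObj f).left.fromSpecResidueField d₀
  have hi : ∀ t : Spec (CommRingCat.of Ω), i.base t = d₀ := fun t => by
    have : i.base t ∈ Set.range ((normObj f).left.fromSpecResidueField d₀).base := ⟨_, rfl⟩
    rwa [Scheme.range_fromSpecResidueField] at this
  let T : Over (Spec (CommRingCat.of k)) := Over.mk (i ≫ (normObj f).hom)
  let zd : T ⟶ normObj f := Over.homMk i rfl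
  let x : T ⟶ X := zd ≫ p
  let X' : Over (Spec (CommRingCat.of k)) := Over.mk (Limits.pullback.fst p.left x.left ≫ (normObj f).hom)
  let pr : X' ⟶ normObj f := Over.homMk (Limits.pullback.fst p.left x.left) rfl
  let q : X' ⟶ T := Over.homMk (Limits.pullback.snd p.left x.left) (by
    show _ ≫ T.hom = _ ≫ (normObj f).hom
    rw [← Over.w x, ← Limits.pullback.condition_assoc, Over.w p])
  have hpb : IsPullback pr q p x :=
    Groth.L18.GITQ.isPullback_over (Over.OverMorphism.ext Limits.pullback.condition) (IsPullback.of_hasPullback _ _)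
  obtain ⟨a', ha, hinv'⟩ := Groth.L18.GITQ.exists_baseChange_action aN hpu.1.1 hpb
  have hq : GIT.IsUnivCatQuot a' q := Groth.L18.GITQ.isUnivCatQuot_baseChange hpu hpb ha hinv'
  haveI : IsAffine T.left := inferInstanceAs (IsAffine (Spec _))
  haveI : IsAffine X'.left := inferInstanceAs (IsAffine (Limits.pullback p.left x.left))
  let u₁ : T ⟶ X' := hpb.lift zd (𝟙 T) (Category.id_comp _).symm
  let u₂ : T ⟶ X' := hpb.lift (x ≫ lift (1 : X ⟶ G) (𝟙 X) ≫ toN f) (𝟙 T) (by
    show (x ≫ lift (1 : X ⟶ G) (𝟙 X) ≫ toN f) ≫ fromN f ≫ snd X X = 𝟙 T ≫ x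
    simp only [Category.assoc, toN_fromN_assoc]
    rw [hf2, lift_snd, Category.comp_id, Category.id_comp])
  -- the orbit of the second point
  have horb : Groth.L14.GITAff.orbMap a' u₂ ≫ pr = (G ◁ x) ≫ toN f := by
    show ((G ◁ u₂) ≫ a'.act) ≫ pr = _
    rw [Category.assoc, ha, ← MonoidalCategory.whiskerLeft_comp_assoc, hpb.lift_fst,
      MonoidalCategory.whiskerLeft_comp, MonoidalCategory.whiskerLeft_comp]
    simp only [MonoidalCategory.whiskerLeft_comp, Category.assoc]
    rw [← hN2]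
    refine congrArg (fun z => (G ◁ zd) ≫ (G ◁ p) ≫ z) ?_
    rw [← Category.assoc]
    refine (congrArg (· ≫ toN f) ?_).trans (Category.id_comp _)
    show (G ◁ lift (1 : X ⟶ G) (𝟙 X)) ≫ (α_ G G X).inv ≫ (μ[G] ▷ X) = 𝟙 _
    rw [← lift_fst_snd, ← Category.id_comp (G ◁ lift (1 : X ⟶ G) (𝟙 X)), ← lift_fst_snd, Category.assoc,
      lift_whiskerLeft_assoc, comp_lift, MonObj.comp_one, Category.comp_id, mul_translate, _root_.mul_one]
  let c : X' ⟶ X ⊗ T := lift (pr ≫ fromN f ≫ fst X X) q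
  have hc2 : Groth.L14.GITAff.orbMap a' u₂ ≫ c = GIT.psi a x := by
    refine CartesianMonoidalCategory.hom_ext _ _ ?_ ?_
    · rw [Category.assoc, lift_fst, reassoc_of% horb, toN_fromN_assoc, hf1, GIT.psi, lift_fst]
    · rw [Category.assoc, lift_snd, GIT.psi, lift_snd]
      show ((G ◁ u₂) ≫ a'.act) ≫ q = _
      rw [Category.assoc, hinv', whiskerLeft_snd_assoc, hpb.lift_snd, Category.comp_id]
  haveI : IsAffine (X ⊗ T).left := isAffine_tensor X T
  have hW₂ : IsClosed (Set.range (Groth.L14.GITAff.orbMap a' u₂).left.base) := by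
    haveI : IsIntegralHom ((Groth.L14.GITAff.orbMap a' u₂).left ≫ c.left) := by
      rw [← Over.comp_left, hc2]
      exact isIntegralHom_psi a hc Ω T (Iso.refl _) x
    haveI : IsIntegralHom (Groth.L14.GITAff.orbMap a' u₂).left := IsIntegralHom.of_comp _ c.left
    exact (Groth.L14.GITAff.orbMap a' u₂).left.isClosedMap.isClosed_range
  have hDc : IsClosed D := (toN f).left.isOpenEmbedding.isOpen_range.isClosed_compl
  refine not_disjoint_of_field hG (Iso.refl T.left) a' q hq (pr.left.base ⁻¹' D)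
    (Set.range (Groth.L14.GITAff.orbMap a' u₂).left.base) (hDc.preimage pr.left.continuous) hW₂ ?_
    (Groth.L14.GITAff.image_range_orbMap a' u₂) ?_ ?_ ?_
  · rintro _ ⟨w, hw, rfl⟩
    show (a'.act ≫ pr).left.base w ∈ D
    rw [ha]
    refine image_compl_range (trAct X) aN hN2 ⟨(G ◁ pr).left.base w, ?_, rfl⟩
    show ((G ◁ pr) ≫ snd G (normObj f)).left.base w ∈ D
    rw [whiskerLeft_snd]
    exact hw
  · refine ⟨u₁.left.base (IsLocalRing.closedPoint Ω), ?_⟩
    show (u₁ ≫ pr).left.base _ ∈ D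
    rw [hpb.lift_fst]
    exact (hi _).symm ▸ hd₀
  · exact ⟨_, (lift (1 : T ⟶ G) (𝟙 T)).left.base (IsLocalRing.closedPoint Ω), rfl⟩
  · rw [Set.disjoint_left]
    rintro w hw ⟨z, rfl⟩
    refine hw ⟨(G ◁ x).left.base z, ?_⟩
    show ((G ◁ x) ≫ toN f).left.base z = (Groth.L14.GITAff.orbMap a' u₂ ≫ pr).left.base z
    rw [horb]

end Groth.L14.GITProper
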