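import Groth.Agent.L14.GITProper.Finite
import Groth.Agent.L14.GITLin.Geom
import Groth.Agent.L18.GIT.StabDim
import Mathlib.AlgebraicGeometry.Morphisms.Proper

/-!
# Properness of the action from a geometric quotient with affine quotient map
-/

set_option autoImplicit false
set_option linter.style.haveILetI false
set_option backward.isDefEq.respectTransparency false
set_option backward.isDefEq.respectTransparency.types false

noncomputable section

universe u

open CategoryTheory MonoidalCategory CartesianMonoidalCategory MonObj AlgebraicGeometry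

namespace Groth.L14.GITProper

variable {k : Type u} [Field k] {G X X' Y : Over (Spec (CommRingCat.of k))} [GrpObj G]

/-- The comparison from the fibred product to the product. -/
def toProd (φ : X ⟶ Y) : Limits.pullback φ.left φ.left ⟶ (X ⊗ X).left :=
  Limits.pullback.map φ.left φ.left X.hom X.hom (𝟙 _) (𝟙 _) Y.hom (by simp) (by simp)

theorem isClosedImmersion_toProd (φ : X ⟶ Y) [IsSeparated Y.hom] : IsClosedImmersion (toProd φ) := by
  have key : ∀ (h : X.left ⟶ Spec (CommRingCat.of k)) (e : φ.left ≫ Y.hom = h),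
      IsClosedImmersion (Limits.pullback.map φ.left φ.left h h (𝟙 _) (𝟙 _) Y.hom (by simp [e]) (by simp [e])) := by
    rintro h rfl
    exact inferInstanceAs (IsClosedImmersion (Limits.pullback.mapDesc φ.left φ.left Y.hom))
  exact key X.hom (Over.w φ)

theorem psiY_toProd (a : AlgGrp.Action G X) (φ : X ⟶ Y) (h : GIT.IsInvariant a φ) :
    GIT.PsiY a φ h ≫ toProd φ = (GIT.psi a (𝟙 X)).left := by
  have e1 : GIT.psi a (𝟙 X) ≫ fst X X = a.act := by rw [GIT.psi, lift_fst, whiskerLeft_id, Category.id_comp]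
  have e2 : GIT.psi a (𝟙 X) ≫ snd X X = snd G X := by rw [GIT.psi, lift_snd]
  refine Limits.pullback.hom_ext ?_ ?_
  · rw [toProd, Limits.pullback.map, Category.assoc, Limits.pullback.lift_fst, Category.comp_id, GIT.PsiY,
      Limits.pullback.lift_fst]
    exact congrArg CommaMorphism.left e1.symm
  · rw [toProd, Limits.pullback.map, Category.assoc, Limits.pullback.lift_snd, Category.comp_id, GIT.PsiY,
      Limits.pullback.lift_snd]
    exact congrArg CommaMorphism.left e2.symm

variable {a : AlgGrp.Action G X} {a' : AlgGrp.Action G X'} (j : X' ⟶ X) (hj : a'.act ≫ j = (G ◁ j) ≫ a.act)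

include hj in
/-- Quasi-finite stabilisers restrict along open immersions. -/
theorem locallyQuasiFinite_stab_of_stabTo [IsOpenImmersion j.left] [LocallyQuasiFinite (GLinSh.stabTo a j)] :
    LocallyQuasiFinite (Limits.pullback.snd (GIT.psi a' (𝟙 X')).left (lift (𝟙 X') (𝟙 X')).left) := by
  haveI : IsOpenImmersion (j ▷ X').left := Groth.L14.GITLin.isOpenImmersion_whiskerRight j X'
  have e1 : (GIT.psi a' (𝟙 X')).left ≫ (j ▷ X').left = (GIT.psi a j).left := by
    rw [← Over.comp_left, Groth.L14.GITLin.psi_whiskerRight j hj, Category.id_comp]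
  have e2 : (lift (𝟙 X') (𝟙 X')).left ≫ (j ▷ X').left = (lift j (𝟙 X')).left := by
    rw [← Over.comp_left, lift_whiskerRight, Category.id_comp]
  have key : ∀ {P : Scheme.{u}} (p : (G ⊗ X').left ⟶ P) (q : X'.left ⟶ P) (i : (X' ⊗ X').left ⟶ P) [Mono i]
      (hp : (GIT.psi a' (𝟙 X')).left ≫ i = p) (hq : (lift (𝟙 X') (𝟙 X')).left ≫ i = q)
      [LocallyQuasiFinite (Limits.pullback.snd p q)],
      LocallyQuasiFinite (Limits.pullback.snd (GIT.psi a' (𝟙 X')).left (lift (𝟙 X') (𝟙 X')).left) := by
    intro P p q i _ hp hq _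
    subst hp hq
    rw [← Limits.pullback.lift_snd (f := (GIT.psi a' (𝟙 X')).left ≫ i) (g := (lift (𝟙 X') (𝟙 X')).left ≫ i)
      (Limits.pullback.fst (GIT.psi a' (𝟙 X')).left (lift (𝟙 X') (𝟙 X')).left)
      (Limits.pullback.snd (GIT.psi a' (𝟙 X')).left (lift (𝟙 X') (𝟙 X')).left)
      (by rw [Limits.pullback.condition_assoc])]
    haveI : IsIso (Limits.pullback.lift (f := (GIT.psi a' (𝟙 X')).left ≫ i) (g := (lift (𝟙 X') (𝟙 X')).left ≫ i)
      (Limits.pullback.fst (GIT.psi a' (𝟙 X')).left (lift (𝟙 X') (𝟙 X')).left)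
      (Limits.pullback.snd (GIT.psi a' (𝟙 X')).left (lift (𝟙 X') (𝟙 X')).left)
      (by rw [Limits.pullback.condition_assoc])) := by
      refine ⟨Limits.pullback.lift (Limits.pullback.fst _ _) (Limits.pullback.snd _ _) ?_, ?_, ?_⟩
      · rw [← cancel_mono i, Category.assoc, Category.assoc, Limits.pullback.condition]
      · ext <;> simp
      · ext <;> simp
    infer_instance
  haveI : LocallyQuasiFinite (Limits.pullback.snd (GIT.psi a j).left (lift j (𝟙 X')).left) :=
    inferInstanceAs (LocallyQuasiFinite (GLinSh.stabTo a j))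
  exact key _ _ (j ▷ X').left e1 e2

include hj in
/-- Quasi-finite stabilisers restrict along open immersions. -/
theorem locallyQuasiFinite_stab_restrict [IsOpenImmersion j.left]
    [LocallyQuasiFinite (Limits.pullback.snd (GIT.psi a (𝟙 X)).left (lift (𝟙 X) (𝟙 X)).left)] :
    LocallyQuasiFinite (Limits.pullback.snd (GIT.psi a' (𝟙 X')).left (lift (𝟙 X') (𝟙 X')).left) := by
  obtain ⟨s, hs⟩ := Groth.L18.GITStab.exists_isPullback_stab a j
  haveI : LocallyQuasiFinite (GLinSh.stabTo a j) :=
    MorphismProperty.of_isPullback (P := @LocallyQuasiFinite) hs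
      (show LocallyQuasiFinite (GLinSh.stabTo a (𝟙 X)) from inferInstanceAs (LocallyQuasiFinite (Limits.pullback.snd _ _)))
  exact locallyQuasiFinite_stab_of_stabTo j hj

include hj in
/-- Closed actions restrict along open immersions. -/
theorem isClosedAction_restrict [IsOpenImmersion j.left] (hc : GIT.IsClosedAction a) : GIT.IsClosedAction a' := by
  intro Ω _ _ T eT f
  haveI := Groth.L14.GITLin.isOpenImmersion_whiskerRight j T
  have e : Set.range (GIT.psi a' f).left.base = (j ▷ T).left.base ⁻¹' Set.range (GIT.psi a (f ≫ j)).left.base := by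
    rw [← Groth.L14.GITLin.psi_whiskerRight j hj f]
    ext w
    constructor
    · rintro ⟨q, rfl⟩; exact ⟨q, rfl⟩
    · rintro ⟨q, hq⟩
      exact ⟨q, (j ▷ T).left.isOpenEmbedding.injective hq⟩
  rw [e]
  exact (hc Ω T eT (f ≫ j)).preimage (j ▷ T).left.continuous

/-- **The action is proper.** -/
theorem isProper_psi [CharZero k] (hG : Red.IsReductive G) [LocallyOfFiniteType X.hom] (a : AlgGrp.Action G X)
    [LocallyQuasiFinite (Limits.pullback.snd (GIT.psi a (𝟙 X)).left (lift (𝟙 X) (𝟙 X)).left)]
    (φ : X ⟶ Y) [IsSeparated Y.hom] [IsAffineHom φ.left] (h : GIT.IsInvariant a φ) (hc : GIT.IsClosedAction a) :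
    IsProper (GIT.psi a (𝟙 X)).left := by
  haveI := isClosedImmersion_toProd φ
  suffices IsFinite (GIT.PsiY a φ h) by
    rw [← psiY_toProd a φ h]
    infer_instance
  let Z := Limits.pullback φ.left φ.left
  -- the pieces
  let Xp (V : Y.left.affineOpens) : Over (Spec (CommRingCat.of k)) := Over.mk ((φ.left ⁻¹ᵁ V.1).ι ≫ X.hom)
  let Yp (V : Y.left.affineOpens) : Over (Spec (CommRingCat.of k)) := Over.mk (V.1.ι ≫ Y.hom)
  let jX (V : Y.left.affineOpens) : Xp V ⟶ X := Over.homMk (φ.left ⁻¹ᵁ V.1).ι rfl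
  let jY (V : Y.left.affineOpens) : Yp V ⟶ Y := Over.homMk V.1.ι rfl
  let φp (V : Y.left.affineOpens) : Xp V ⟶ Yp V := Over.homMk (φ.left ∣_ V.1) (by
    show (φ.left ∣_ V.1) ≫ V.1.ι ≫ Y.hom = (φ.left ⁻¹ᵁ V.1).ι ≫ X.hom
    rw [morphismRestrict_ι_assoc, Over.w φ])
  have hsq : ∀ V, jX V ≫ φ = φp V ≫ jY V := fun V => Over.OverMorphism.ext (morphismRestrict_ι φ.left V.1).symm
  have hpb : ∀ V, IsPullback (jX V) (φp V) φ (jY V) := fun V =>
    Groth.L18.GITQ.isPullback_over (hsq V) (isPullback_morphismRestrict φ.left V.1).flip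
  let M (V : Y.left.affineOpens) : Limits.pullback (φp V).left (φp V).left ⟶ Z :=
    Limits.pullback.map (φp V).left (φp V).left φ.left φ.left (jX V).left (jX V).left (jY V).left
      (congrArg CommaMorphism.left (hsq V)).symm (congrArg CommaMorphism.left (hsq V)).symm
  haveI : ∀ V, IsOpenImmersion (jX V).left := fun V => inferInstanceAs (IsOpenImmersion (φ.left ⁻¹ᵁ V.1).ι)
  haveI : ∀ V, IsOpenImmersion (jY V).left := fun V => inferInstanceAs (IsOpenImmersion V.1.ι)
  have hM : ∀ (V : Y.left.affineOpens) (z : Z),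
      φ.left.base ((Limits.pullback.fst φ.left φ.left).base z) ∈ V.1 → z ∈ Set.range (M V).base := by
    intro V z hz
    rw [Scheme.Pullback.range_map]
    refine ⟨?_, ?_⟩
    all_goals refine (Scheme.Opens.range_ι _).ge ?_
    · exact hz
    · show φ.left.base ((Limits.pullback.snd φ.left φ.left).base z) ∈ V.1
      rwa [← Scheme.Hom.comp_apply, ← Limits.pullback.condition, Scheme.Hom.comp_apply]
  let 𝒰 : Z.OpenCover := Scheme.Cover.mkOfCovers Y.left.affineOpens (fun V => Limits.pullback (φp V).left (φp V).left) M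
    (fun z => by
      obtain ⟨V, hV, hz, -⟩ := TopologicalSpace.Opens.isBasis_iff_nbhd.1 Y.left.isBasis_affineOpens (U := ⊤)
        (TopologicalSpace.Opens.mem_top (φ.left.base ((Limits.pullback.fst φ.left φ.left).base z)))
      obtain ⟨w, hw⟩ := hM ⟨V, hV⟩ z hz
      exact ⟨⟨V, hV⟩, w, hw⟩)
    (fun V => inferInstanceAs (IsOpenImmersion (Limits.pullback.map _ _ _ _ _ _ _ _ _)))
  refine IsZariskiLocalAtTarget.of_openCover 𝒰 fun (V : Y.left.affineOpens) => ?_
  obtain ⟨aV, haV, hiV⟩ := Groth.L18.GITQ.exists_baseChange_action a h (hpb V)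
  haveI : IsAffine (Xp V).left := V.2.preimage φ.left
  haveI : LocallyOfFiniteType (Xp V).hom := inferInstanceAs (LocallyOfFiniteType ((φ.left ⁻¹ᵁ V.1).ι ≫ X.hom))
  haveI : IsAffine (Yp V).left := V.2
  haveI : IsSeparated (Yp V).hom := inferInstanceAs (IsSeparated (V.1.ι ≫ Y.hom))
  haveI := locallyQuasiFinite_stab_restrict (jX V) haV
  haveI := isFinite_psi hG aV (isClosedAction_restrict (jX V) haV hc)
  haveI := isClosedImmersion_toProd (φp V)
  haveI : IsFinite (GIT.PsiY aV (φp V) hiV ≫ toProd (φp V)) := by rw [psiY_toProd]; infer_instance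
  haveI : IsFinite (GIT.PsiY aV (φp V) hiV) := IsFinite.of_comp _ (toProd (φp V))
  -- the square
  have hw : (G ◁ jX V).left ≫ GIT.PsiY a φ h = GIT.PsiY aV (φp V) hiV ≫ M V := by
    refine Limits.pullback.hom_ext ?_ ?_
    · simp only [Category.assoc, GIT.PsiY, M, Limits.pullback.map, Limits.pullback.lift_fst,
        Limits.pullback.lift_fst_assoc]
      exact (congrArg CommaMorphism.left haV).symm
    · simp only [Category.assoc, GIT.PsiY, M, Limits.pullback.map, Limits.pullback.lift_snd,
        Limits.pullback.lift_snd_assoc]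
      exact congrArg CommaMorphism.left (whiskerLeft_snd G (jX V))
  haveI : IsOpenImmersion (G ◁ jX V).left :=
    MorphismProperty.of_isPullback (P := @IsOpenImmersion) (Groth.L18.GITQ.isPullback_whiskerLeft G (jX V)).flip
      inferInstance
  haveI : IsOpenImmersion (M V) := inferInstanceAs (IsOpenImmersion (Limits.pullback.map _ _ _ _ _ _ _ _ _))
  have hpbV : IsPullback (G ◁ jX V).left (GIT.PsiY aV (φp V) hiV) (GIT.PsiY a φ h) (M V) := by
    refine (IsOpenImmersion.isPullback _ _ _ _ hw ?_).flip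
    refine TopologicalSpace.Opens.ext (Set.Subset.antisymm (fun w hwV => ?_) ?_)
    · obtain ⟨m, hm⟩ := hwV
      have hsnd : (snd G X).left.base w ∈ Set.range (jX V).left.base :=
        ⟨(Limits.pullback.snd (φp V).left (φp V).left).base m, by
          rw [← Scheme.Hom.comp_apply, ← Limits.pullback.lift_snd (W := Limits.pullback (φp V).left (φp V).left)
            (Limits.pullback.fst _ _ ≫ (jX V).left) (Limits.pullback.snd _ _ ≫ (jX V).left)
            (by rw [Category.assoc, Category.assoc, ← Over.comp_left, hsq, Over.comp_left,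
              Limits.pullback.condition_assoc])]
          show (Limits.pullback.snd φ.left φ.left).base ((M V).base m) = _
          rw [hm]
          show (GIT.PsiY a φ h ≫ Limits.pullback.snd φ.left φ.left).base w = _
          rw [GIT.PsiY, Limits.pullback.lift_snd]⟩
      obtain ⟨u, hu⟩ := hsnd
      obtain ⟨v, hv, -⟩ := Groth.L14.GITAff.exists_preimage_isPullback
        (Groth.L18.GITQ.isPullback_whiskerLeft G (jX V)) w u hu.symm
      exact ⟨v, hv⟩
    · rintro _ ⟨v, rfl⟩
      exact ⟨(GIT.PsiY aV (φp V) hiV).base v, by rw [← Scheme.Hom.comp_apply, ← hw]; rfl⟩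
  show IsFinite (Limits.pullback.snd (GIT.PsiY a φ h) (M V))
  rw [← hpbV.isoPullback_inv_snd]
  infer_instance

end Groth.L14.GITProper
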