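import Groth.Agent.L14.GITProper.NormAction
import Groth.Agent.L14.GITAff.ClosedAction
import Mathlib.AlgebraicGeometry.Morphisms.Integral
import Mathlib.AlgebraicGeometry.Morphisms.QuasiFinite
import Mathlib.RingTheory.Ideal.GoingUp
import Mathlib.RingTheory.Ideal.MinimalPrime.Localization

/-!
# Topology of affine morphisms, and shear squares for equivariant morphisms
-/

set_option autoImplicit false
set_option linter.style.haveILetI false
set_option backward.isDefEq.respectTransparency false
set_option backward.isDefEq.respectTransparency.types false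

noncomputable section

universe u

open CategoryTheory MonoidalCategory CartesianMonoidalCategory MonObj AlgebraicGeometry

namespace Groth.L14.GITProper

section Affine

variable {A B : Scheme.{u}} [IsAffine A] [IsAffine B] (f : A ⟶ B)

theorem isoSpec_apply (a : A) :
    B.isoSpec.hom.base (f.base a) = PrimeSpectrum.comap f.appTop.hom (A.isoSpec.hom.base a) :=
  congrArg (fun q : A ⟶ Spec Γ(B, ⊤) => q.base a) (Scheme.isoSpec_hom_naturality f).symm

/-- Points adherent to the range of a morphism of affine schemes specialise from minimal points of the range. -/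
theorem exists_specializes_minimal {y : B} (hy : y ∈ closure (Set.range f.base)) :
    ∃ a, f.base a ⤳ y ∧ ∀ b ∈ closure (Set.range f.base), b ⤳ f.base a → b = f.base a := by
  let e := B.isoSpec.hom.homeomorph
  have hcl : ∀ b, b ∈ closure (Set.range f.base) →
      RingHom.ker f.appTop.hom ≤ (B.isoSpec.hom.base b).asIdeal := by
    intro b hb
    have : B.isoSpec.hom.base b ∈ closure (Set.range (PrimeSpectrum.comap f.appTop.hom)) := by
      refine map_mem_closure B.isoSpec.hom.continuous hb ?_
      rintro _ ⟨a, rfl⟩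
      exact ⟨_, (isoSpec_apply f a).symm⟩
    rwa [PrimeSpectrum.closure_range_comap] at this
  obtain ⟨m, hm, hmy⟩ := Ideal.exists_minimalPrimes_le (hcl y hy)
  obtain ⟨q, hq, -, hqm⟩ := Ideal.exists_comap_eq_of_mem_minimalPrimes (I := ⊥) f.appTop.hom m
    (by rwa [← RingHom.ker_eq_comap_bot])
  let a : A := A.isoSpec.inv.base ⟨q, hq⟩
  have ha : (B.isoSpec.hom.base (f.base a)).asIdeal = m := by
    rw [isoSpec_apply f a]
    show ((A.isoSpec.hom.base (A.isoSpec.inv.base ⟨q, hq⟩)) : PrimeSpectrum _).asIdeal.comap _ = m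
    rw [← Scheme.Hom.comp_apply, A.isoSpec.inv_hom_id]
    exact hqm
  refine ⟨a, ?_, fun b hb hba => ?_⟩
  · refine e.isInducing.specializes_iff.1 ((PrimeSpectrum.le_iff_specializes _ _).1 ?_)
    show (B.isoSpec.hom.base (f.base a)).asIdeal ≤ (B.isoSpec.hom.base y).asIdeal
    rw [ha]; exact hmy
  · refine e.injective (PrimeSpectrum.ext ?_)
    have h1 : (B.isoSpec.hom.base b).asIdeal ≤ m :=
      ha ▸ ((PrimeSpectrum.le_iff_specializes _ _).2 (hba.map B.isoSpec.hom.continuous))
    show (B.isoSpec.hom.base b).asIdeal = (B.isoSpec.hom.base (f.base a)).asIdeal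
    rw [ha]
    exact h1.antisymm (hm.2 ⟨inferInstance, hcl b hb⟩ h1)

/-- Incomparability for integral morphisms of affine schemes. -/
theorem eq_of_specializes [IsIntegralHom f] {a b : A} (h : a ⤳ b) (e : f.base a = f.base b) : a = b := by
  have hint : f.appTop.hom.IsIntegral := ((HasAffineProperty.iff_of_isAffine (P := @IsIntegralHom)).1 ‹_›).2
  refine A.isoSpec.hom.homeomorph.injective (PrimeSpectrum.ext ?_)
  by_contra hne
  algebraize [f.appTop.hom]
  have hlt : (A.isoSpec.hom.base a).asIdeal < (A.isoSpec.hom.base b).asIdeal :=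
    lt_of_le_of_ne ((PrimeSpectrum.le_iff_specializes _ _).2 (h.map A.isoSpec.hom.continuous)) hne
  have h2 := Ideal.IsIntegral.comap_lt_comap (R := Γ(B, ⊤)) hlt
  have h3 := congrArg (fun z => (B.isoSpec.hom.base z).asIdeal) e
  simp only [isoSpec_apply] at h3
  exact h2.ne h3

end Affine

variable {S : Scheme.{u}} {G : Over S} [GrpObj G]

theorem mul_translate (T : Over S) {Q : Over S} (g : Q ⟶ G) (h : Q ⟶ G) (t : Q ⟶ T) :
    lift g (lift h t) ≫ (α_ G G T).inv ≫ (μ[G] ▷ T) = lift (g * h) t := by
  rw [lift_lift_associator_inv_assoc, lift_whiskerRight, Hom.mul_def]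

/-- The regular action. -/
def regAct : AlgGrp.Action G G where
  act := μ[G]
  one_act := MonObj.one_mul G
  mul_act := MonObj.mul_assoc G

/-- The action on the first factor of a product. -/
def fstAct {X : Over S} (a : AlgGrp.Action G X) (T : Over S) : AlgGrp.Action G (X ⊗ T) where
  act := (α_ G X T).inv ≫ (a.act ▷ T)
  one_act := by
    rw [associator_inv_naturality_left_assoc, ← comp_whiskerRight, a.one_act]
    monoidal
  mul_act := by
    rw [associator_inv_naturality_left_assoc, ← comp_whiskerRight, a.mul_act]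
    simp

/-- The action by translations on the first factor. -/
abbrev trAct (T : Over S) : AlgGrp.Action G (G ⊗ T) := fstAct regAct T

variable {X : Over S} (a : AlgGrp.Action G X)

theorem fstAct_snd (T : Over S) : (fstAct a T).act ≫ snd X T = snd G (X ⊗ T) ≫ snd X T := by
  simp [fstAct]

theorem fstAct_fst (T : Over S) : (fstAct a T).act ≫ fst X T = (G ◁ fst X T) ≫ a.act := by
  rw [fstAct]
  simp only [Category.assoc, whiskerRight_fst]
  rw [← Category.assoc]
  congr 1
  ext <;> simp

/-- Orbit maps are equivariant. -/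
theorem psi_equivariant {T : Over S} (f : T ⟶ X) :
    (trAct T).act ≫ GIT.psi a f = (G ◁ GIT.psi a f) ≫ (fstAct a T).act := by
  refine CartesianMonoidalCategory.hom_ext _ _ ?_ ?_
  · rw [Category.assoc, Category.assoc, fstAct_fst, ← MonoidalCategory.whiskerLeft_comp_assoc, GIT.psi, lift_fst,
      MonoidalCategory.whiskerLeft_comp, Category.assoc, trAct, fstAct, regAct]
    simp only [Category.assoc]
    rw [← whisker_exchange_assoc, a.mul_act, associator_naturality_right_assoc, Iso.inv_hom_id_assoc]
  · rw [Category.assoc, Category.assoc, fstAct_snd, GIT.psi, lift_snd, whiskerLeft_snd_assoc, lift_snd, trAct]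
    simp [fstAct]

variable {P Q : Over S} (aP : AlgGrp.Action G P) (aQ : AlgGrp.Action G Q)

/-- The shear isomorphism of an action. -/
def shear : G ⊗ P ≅ G ⊗ P where
  hom := lift (fst G P) aP.act
  inv := lift (fst G P) (lift (fst G P)⁻¹ (snd G P) ≫ aP.act)
  hom_inv_id := by
    rw [comp_lift, lift_fst, comp_lift_assoc, GrpObj.comp_inv, lift_fst, lift_snd]
    nth_rewrite 1 [show aP.act = lift (fst G P) (snd G P) ≫ aP.act by rw [lift_fst_snd, Category.id_comp]]
    rw [Groth.L14.GITAff.act_act', inv_mul_cancel, Groth.L14.GITAff.act_one', lift_fst_snd]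
  inv_hom_id := by
    rw [comp_lift, lift_fst]
    rw [Groth.L14.GITAff.act_act', mul_inv_cancel, Groth.L14.GITAff.act_one', lift_fst_snd]

theorem shear_snd : (shear aP).hom ≫ snd G P = aP.act := lift_snd _ _

/-- The action square of an equivariant morphism is cartesian. -/
theorem isPullback_act {f : P ⟶ Q} (h : aP.act ≫ f = (G ◁ f) ≫ aQ.act) :
    IsPullback aP.act.left (G ◁ f).left f.left aQ.act.left := by
  have hsq : (shear aP).hom ≫ (G ◁ f) = (G ◁ f) ≫ (shear aQ).hom := by
    refine CartesianMonoidalCategory.hom_ext _ _ ?_ ?_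
    · simp [shear]
    · rw [Category.assoc, Category.assoc, whiskerLeft_snd, shear_snd, reassoc_of% (shear_snd aP), h]
  haveI : IsIso (shear aP).hom.left := inferInstanceAs (IsIso ((Over.forget _).map (shear aP).hom))
  haveI : IsIso (shear aQ).hom.left := inferInstanceAs (IsIso ((Over.forget _).map (shear aQ).hom))
  have h1 : IsPullback (shear aP).hom.left (G ◁ f).left (G ◁ f).left (shear aQ).hom.left :=
    IsPullback.of_horiz_isIso ⟨congrArg CommaMorphism.left hsq⟩
  have := h1.paste_horiz (Groth.L18.GITQ.isPullback_whiskerLeft G f).flip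
  rwa [← Over.comp_left, ← Over.comp_left, shear_snd, shear_snd] at this

/-- The complement of the range of an equivariant morphism is invariant. -/
theorem image_compl_range {f : P ⟶ Q} (h : aP.act ≫ f = (G ◁ f) ≫ aQ.act) :
    aQ.act.left.base '' ((snd G Q).left.base ⁻¹' (Set.range f.left.base)ᶜ) ⊆ (Set.range f.left.base)ᶜ := by
  rintro _ ⟨w, hw, rfl⟩ ⟨p, hp⟩
  obtain ⟨v, -, hv⟩ := Groth.L14.GITAff.exists_preimage_isPullback (isPullback_act aP aQ h) p w hp
  refine hw ⟨(snd G P).left.base v, ?_⟩
  rw [← hv]
  show ((snd G P) ≫ f).left.base v = ((G ◁ f) ≫ snd G Q).left.base v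
  rw [whiskerLeft_snd]

/-- The orbit map of a point as a base change of the orbit map of the identity. -/
theorem isPullback_psi {T : Over S} (f : T ⟶ X) :
    IsPullback (G ◁ f).left (GIT.psi a f).left (GIT.psi a (𝟙 X)).left (X ◁ f).left := by
  have h1 : (GIT.psi a f).left ≫ (snd X T).left = (snd G T).left := by
    rw [← Over.comp_left, GIT.psi, lift_snd]
  have h2 : (GIT.psi a (𝟙 X)).left ≫ (snd X X).left = (snd G X).left := by
    rw [← Over.comp_left, GIT.psi, lift_snd]
  refine IsPullback.of_bot ?_ ?_ (Groth.L18.GITQ.isPullback_whiskerLeft X f)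
  · rw [h1, h2]
    exact Groth.L18.GITQ.isPullback_whiskerLeft G f
  · rw [← Over.comp_left, ← Over.comp_left]
    refine congrArg CommaMorphism.left (CartesianMonoidalCategory.hom_ext _ _ ?_ ?_) <;> simp [GIT.psi]

end Groth.L14.GITProper
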