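import Groth.Agent.L18.GIT.UnivQuot
import Mathlib.AlgebraicGeometry.Normalization

/-!
# The relative normalisation of an equivariant morphism carries an action of a smooth group
-/

set_option autoImplicit false
set_option linter.style.haveILetI false
set_option backward.isDefEq.respectTransparency false

noncomputable section

universe u

open CategoryTheory MonoidalCategory CartesianMonoidalCategory MonObj AlgebraicGeometry

namespace Groth.L14.GITProper

variable {S : Scheme.{u}} {P Q : Over S} (f : P ⟶ Q) [QuasiCompact f.left] [QuasiSeparated f.left]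

/-- The relative normalisation, over the base. -/
def normObj : Over S := Over.mk (f.left.fromNormalization ≫ Q.hom)

/-- The map to the normalisation. -/
def toN : P ⟶ normObj f :=
  Over.homMk f.left.toNormalization (by
    show f.left.toNormalization ≫ f.left.fromNormalization ≫ Q.hom = P.hom
    rw [Scheme.Hom.toNormalization_fromNormalization_assoc, Over.w f])

/-- The map from the normalisation. -/
def fromN : normObj f ⟶ Q := Over.homMk f.left.fromNormalization rfl

@[reassoc (attr := simp)]
theorem toN_fromN : toN f ≫ fromN f = f :=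
  Over.OverMorphism.ext f.left.toNormalization_fromNormalization

instance : IsIntegralHom (fromN f).left := inferInstanceAs (IsIntegralHom f.left.fromNormalization)

section Whisker

variable (H : Over S) [Smooth H.hom]

instance smooth_snd (T : Over S) : Smooth (snd H T).left :=
  MorphismProperty.of_isPullback (P := @Smooth) (IsPullback.of_hasPullback H.hom T.hom) inferInstance

/-- The product with the source as a pullback. -/
def eP : (H ⊗ P).left ≅ Limits.pullback f.left (snd H Q).left :=
  (Groth.L18.GITQ.isPullback_whiskerLeft H f).flip.isoPullback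

/-- The product with the normalisation is the normalisation of the product. -/
def eN : (H ⊗ normObj f).left ≅ (Limits.pullback.snd f.left (snd H Q).left).normalization :=
  (Groth.L18.GITQ.isPullback_whiskerLeft H (fromN f)).flip.isoPullback ≪≫
    (asIso (f.left.normalizationPullback (snd H Q).left)).symm

theorem eN_hom_fromNormalization :
    (eN f H).hom ≫ (Limits.pullback.snd f.left (snd H Q).left).fromNormalization = (H ◁ fromN f).left := by
  rw [← Scheme.Hom.normalizationPullback_snd, eN]
  simp only [Iso.trans_hom, Iso.symm_hom, asIso_inv, Category.assoc, IsIso.inv_hom_id_assoc]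
  exact IsPullback.isoPullback_hom_snd _

theorem whiskerLeft_toN :
    (H ◁ toN f).left ≫ (eN f H).hom = (eP f H).hom ≫ (Limits.pullback.snd f.left (snd H Q).left).toNormalization := by
  rw [eN, Iso.trans_hom, Iso.symm_hom, asIso_inv, ← Category.assoc, IsIso.comp_inv_eq, Category.assoc]
  refine Limits.pullback.hom_ext ?_ ?_
  · simp only [Category.assoc]
    refine Eq.trans (congrArg ((H ◁ toN f).left ≫ ·) (IsPullback.isoPullback_hom_fst _)) (Eq.trans ?_
      (congrArg ((eP f H).hom ≫ ·) (Scheme.Hom.toNormalization_normalizationPullback_fst f.left (snd H Q).left)).symm)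
    rw [eP, ← Category.assoc, IsPullback.isoPullback_hom_fst]
    show ((H ◁ toN f) ≫ snd H (normObj f)).left = (snd H P ≫ toN f).left
    rw [whiskerLeft_snd]
  · simp only [Category.assoc]
    refine Eq.trans (congrArg ((H ◁ toN f).left ≫ ·) (IsPullback.isoPullback_hom_snd _)) (Eq.trans ?_
      (congrArg ((eP f H).hom ≫ ·) ((congrArg (_ ≫ ·) (Scheme.Hom.normalizationPullback_snd f.left (snd H Q).left)).trans
        (Scheme.Hom.toNormalization_fromNormalization _))).symm)
    rw [eP, IsPullback.isoPullback_hom_snd]
    show ((H ◁ toN f) ≫ (H ◁ fromN f)).left = (H ◁ f).left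
    rw [← MonoidalCategory.whiskerLeft_comp, toN_fromN]

/-- Morphisms out of a product with the normalisation over an affine morphism are determined on the source. -/
theorem hom_ext_whisker {T C : Over S} {u v : H ⊗ normObj f ⟶ T} (g : T ⟶ C) [IsAffineHom g.left] (w : H ⊗ Q ⟶ C)
    (hu : u ≫ g = (H ◁ fromN f) ≫ w) (hv : v ≫ g = (H ◁ fromN f) ≫ w)
    (h : (H ◁ toN f) ≫ u = (H ◁ toN f) ≫ v) : u = v := by
  haveI : IsAffineHom (Limits.pullback.snd g.left w.left) :=
    MorphismProperty.of_isPullback (P := @IsAffineHom) (IsPullback.of_hasPullback g.left w.left) inferInstance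
  let u' : (H ⊗ normObj f).left ⟶ Limits.pullback g.left w.left :=
    Limits.pullback.lift u.left (H ◁ fromN f).left (congrArg CommaMorphism.left hu)
  let v' : (H ⊗ normObj f).left ⟶ Limits.pullback g.left w.left :=
    Limits.pullback.lift v.left (H ◁ fromN f).left (congrArg CommaMorphism.left hv)
  have e : (eN f H).inv ≫ u' = (eN f H).inv ≫ v' := by
    refine Scheme.Hom.normalization.hom_ext _ _ _ (Limits.pullback.snd g.left w.left) ?_ ?_ ?_
    · have hpre : (Limits.pullback.snd f.left (snd H Q).left).toNormalization ≫ (eN f H).inv =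
          (eP f H).inv ≫ (H ◁ toN f).left := by
        rw [Iso.comp_inv_eq, Category.assoc, whiskerLeft_toN, Iso.inv_hom_id_assoc]
      rw [reassoc_of% hpre, reassoc_of% hpre]
      congr 1
      refine Limits.pullback.hom_ext ?_ ?_
      · rw [Category.assoc, Category.assoc, Limits.pullback.lift_fst, Limits.pullback.lift_fst]
        exact congrArg CommaMorphism.left h
      · rw [Category.assoc, Category.assoc, Limits.pullback.lift_snd, Limits.pullback.lift_snd]
    · rw [Category.assoc, Limits.pullback.lift_snd, Iso.inv_comp_eq, eN_hom_fromNormalization]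
    · rw [Category.assoc, Limits.pullback.lift_snd, Iso.inv_comp_eq, eN_hom_fromNormalization]
  rw [cancel_epi] at e
  apply Over.OverMorphism.ext
  calc u.left = u' ≫ Limits.pullback.fst g.left w.left := (Limits.pullback.lift_fst _ _ _).symm
    _ = v' ≫ Limits.pullback.fst g.left w.left := by rw [e]
    _ = v.left := Limits.pullback.lift_fst _ _ _

end Whisker

/-- Morphisms from the normalisation to an affine object are determined on the source. -/
theorem hom_ext_affine {T : Over S} [IsAffineHom T.hom] {u v : normObj f ⟶ T} (h : toN f ≫ u = toN f ≫ v) :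
    u = v := by
  haveI : IsAffineHom (snd T Q).left :=
    MorphismProperty.of_isPullback (P := @IsAffineHom) (IsPullback.of_hasPullback T.hom Q.hom) inferInstance
  have e : (lift u (fromN f)).left = (lift v (fromN f)).left := by
    refine Scheme.Hom.normalization.hom_ext _ _ _ (snd T Q).left ?_ ?_ ?_
    · exact congrArg CommaMorphism.left (show toN f ≫ lift u (fromN f) = toN f ≫ lift v (fromN f) by
        rw [comp_lift, comp_lift, h])
    · exact congrArg CommaMorphism.left (lift_snd u (fromN f))
    · exact congrArg CommaMorphism.left (lift_snd v (fromN f))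
  have e' : lift u (fromN f) = lift v (fromN f) := Over.OverMorphism.ext e
  rw [← lift_fst u (fromN f), e', lift_fst]

variable {G : Over S} [GrpObj G] [Smooth G.hom] {aP : AlgGrp.Action G P} {aQ : AlgGrp.Action G Q}

/-- The action on the normalisation. -/
theorem exists_action (heq : aP.act ≫ f = (G ◁ f) ≫ aQ.act) :
    ∃ aN : AlgGrp.Action G (normObj f),
      aN.act ≫ fromN f = (G ◁ fromN f) ≫ aQ.act ∧ aP.act ≫ toN f = (G ◁ toN f) ≫ aN.act := by
  haveI : IsIntegralHom (Limits.pullback.snd (fromN f).left aQ.act.left) :=
    MorphismProperty.of_isPullback (P := @IsIntegralHom) (IsPullback.of_hasPullback (fromN f).left aQ.act.left)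
      inferInstance
  let f₁ : Limits.pullback f.left (snd G Q).left ⟶ Limits.pullback (fromN f).left aQ.act.left :=
    Limits.pullback.lift ((eP f G).inv ≫ (aP.act ≫ toN f).left) (Limits.pullback.snd _ _) (by
      rw [Category.assoc, ← Over.comp_left, Category.assoc, toN_fromN, heq, Over.comp_left, ← Category.assoc]
      congr 1
      rw [eP, IsPullback.isoPullback_inv_snd])
  let d := (Limits.pullback.snd f.left (snd G Q).left).normalizationDesc f₁
    (Limits.pullback.snd (fromN f).left aQ.act.left) (Limits.pullback.lift_snd _ _ _).symm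
  have hd1 : (Limits.pullback.snd f.left (snd G Q).left).toNormalization ≫ d = f₁ :=
    Scheme.Hom.toNormalization_normalizationDesc _ _ _ _
  have hd2 : d ≫ Limits.pullback.snd (fromN f).left aQ.act.left = (Limits.pullback.snd f.left (snd G Q).left).fromNormalization :=
    Scheme.Hom.normalizationDesc_comp _ _ _ _
  let m : (G ⊗ normObj f).left ⟶ (normObj f).left := (eN f G).hom ≫ d ≫ Limits.pullback.fst _ _
  have hm : m ≫ (fromN f).left = ((G ◁ fromN f) ≫ aQ.act).left := by
    show ((eN f G).hom ≫ d ≫ Limits.pullback.fst (fromN f).left aQ.act.left) ≫ (fromN f).left = _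
    rw [Category.assoc, Category.assoc, Limits.pullback.condition, reassoc_of% hd2,
      reassoc_of% (eN_hom_fromNormalization f G), Over.comp_left]
  let act : G ⊗ normObj f ⟶ normObj f := Over.homMk m (by
    rw [← Over.w (fromN f), reassoc_of% hm]
    exact Over.w ((G ◁ fromN f) ≫ aQ.act))
  have h1 : act ≫ fromN f = (G ◁ fromN f) ≫ aQ.act := Over.OverMorphism.ext hm
  have h2 : aP.act ≫ toN f = (G ◁ toN f) ≫ act := by
    apply Over.OverMorphism.ext
    show (aP.act ≫ toN f).left = (G ◁ toN f).left ≫ (eN f G).hom ≫ d ≫ Limits.pullback.fst _ _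
    rw [reassoc_of% (whiskerLeft_toN f G), reassoc_of% hd1, Limits.pullback.lift_fst, Iso.hom_inv_id_assoc]
  haveI : IsAffineHom (fromN f).left := inferInstance
  haveI : Smooth (𝟙_ (Over S)).hom := inferInstanceAs (Smooth (𝟙 S))
  haveI : Smooth (G ⊗ G).hom := by
    rw [← Over.w (snd G G)]
    infer_instance
  refine ⟨⟨act, ?_, ?_⟩, h1, h2⟩
  · refine hom_ext_whisker f (𝟙_ _) (fromN f) (λ_ Q).hom ?_ ?_ ?_
    · rw [Category.assoc, h1, ← whisker_exchange_assoc, aQ.one_act]
    · exact (leftUnitor_naturality _).symm
    · rw [whisker_exchange_assoc, ← h2, reassoc_of% aP.one_act, leftUnitor_naturality]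
  · refine hom_ext_whisker f (G ⊗ G) (fromN f) ((μ[G] ▷ Q) ≫ aQ.act) ?_ ?_ ?_
    · rw [Category.assoc, h1, ← whisker_exchange_assoc]
    · rw [Category.assoc, Category.assoc, h1, ← MonoidalCategory.whiskerLeft_comp_assoc, h1,
        MonoidalCategory.whiskerLeft_comp_assoc, aQ.mul_act, associator_naturality_right_assoc]
    · rw [whisker_exchange_assoc, ← h2, reassoc_of% aP.mul_act, h2, ← MonoidalCategory.whiskerLeft_comp_assoc, h2,
        MonoidalCategory.whiskerLeft_comp_assoc, associator_naturality_right_assoc]

end Groth.L14.GITProper
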