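import Groth.Agent.L14.GITProper.Lemmas
import Mathlib.AlgebraicGeometry.ZariskisMainTheorem

/-!
# Orbit maps of geometric points with finite stabilisers are integral
-/

set_option autoImplicit false
set_option linter.style.haveILetI false
set_option backward.isDefEq.respectTransparency false
set_option backward.isDefEq.respectTransparency.types false

noncomputable section

universe u

open CategoryTheory MonoidalCategory CartesianMonoidalCategory MonObj AlgebraicGeometry

namespace Groth.L14.GITProper

variable {k : Type u} [Field k] {G X : Over (Spec (CommRingCat.of k))} [GrpObj G]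

theorem isAffine_tensor (A B : Over (Spec (CommRingCat.of k))) [IsAffine A.left] [IsAffine B.left] :
    IsAffine (A ⊗ B).left := inferInstanceAs (IsAffine (Limits.pullback A.hom B.hom))

/-- With quasi-finite stabilisers the orbit map of the identity is quasi-finite. -/
theorem locallyQuasiFinite_psi (a : AlgGrp.Action G X) [LocallyOfFiniteType (GIT.psi a (𝟙 X)).left]
    [QuasiCompact (GIT.psi a (𝟙 X)).left]
    [LocallyQuasiFinite (Limits.pullback.snd (GIT.psi a (𝟙 X)).left (lift (𝟙 X) (𝟙 X)).left)] :
    LocallyQuasiFinite (GIT.psi a (𝟙 X)).left := by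
  let Δ : X ⟶ X ⊗ X := lift (𝟙 X) (𝟙 X)
  let St : Over (Spec (CommRingCat.of k)) := Over.mk (Limits.pullback.snd (GIT.psi a (𝟙 X)).left Δ.left ≫ X.hom)
  let ss : St ⟶ X := Over.homMk (Limits.pullback.snd (GIT.psi a (𝟙 X)).left Δ.left) rfl
  let sf : St ⟶ G ⊗ X := Over.homMk (Limits.pullback.fst (GIT.psi a (𝟙 X)).left Δ.left) (by
    show _ = Limits.pullback.snd (GIT.psi a (𝟙 X)).left Δ.left ≫ X.hom
    rw [← Over.w (GIT.psi a (𝟙 X)), ← Over.w Δ, Limits.pullback.condition_assoc])
  have h0 : IsPullback sf.left ss.left (GIT.psi a (𝟙 X)).left Δ.left := IsPullback.of_hasPullback _ _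
  haveI : LocallyQuasiFinite ss.left := inferInstanceAs (LocallyQuasiFinite (Limits.pullback.snd _ _))
  haveI : LocallyOfFiniteType ss.left := MorphismProperty.of_isPullback (P := @LocallyOfFiniteType) h0 inferInstance
  haveI : QuasiCompact ss.left := MorphismProperty.of_isPullback (P := @QuasiCompact) h0 inferInstance
  have hq : LocallyQuasiFinite (G ◁ ss).left :=
    MorphismProperty.of_isPullback (P := @LocallyQuasiFinite) (Groth.L18.GITQ.isPullback_whiskerLeft G ss).flip
      inferInstance
  haveI : QuasiCompact (G ◁ ss).left :=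
    MorphismProperty.of_isPullback (P := @QuasiCompact) (Groth.L18.GITQ.isPullback_whiskerLeft G ss).flip
      inferInstance
  -- the square over the orbit map itself
  have e : (G ◁ Δ) ≫ (fstAct a X).act = GIT.psi a (𝟙 X) := by
    refine CartesianMonoidalCategory.hom_ext _ _ ?_ ?_
    · rw [Category.assoc, fstAct_fst, ← MonoidalCategory.whiskerLeft_comp_assoc, lift_fst, GIT.psi, lift_fst]
    · rw [Category.assoc, fstAct_snd, whiskerLeft_snd_assoc, lift_snd, GIT.psi, lift_snd, Category.comp_id]
  have h1 : IsPullback (G ◁ sf).left (G ◁ ss).left (G ◁ GIT.psi a (𝟙 X)).left (G ◁ Δ).left := by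
    refine IsPullback.of_right ?_ ?_ (Groth.L18.GITQ.isPullback_whiskerLeft G (GIT.psi a (𝟙 X))).flip
    · rw [← Over.comp_left, ← Over.comp_left, whiskerLeft_snd, whiskerLeft_snd, Over.comp_left, Over.comp_left]
      exact (Groth.L18.GITQ.isPullback_whiskerLeft G ss).flip.paste_horiz h0
    · rw [← Over.comp_left, ← Over.comp_left, ← MonoidalCategory.whiskerLeft_comp, ← MonoidalCategory.whiskerLeft_comp]
      exact congrArg (fun z => (G ◁ z).left) (Over.OverMorphism.ext h0.w)
  have h2 := h1.paste_horiz (isPullback_act (trAct X) (fstAct a X) (psi_equivariant a (𝟙 X)))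
  rw [← Over.comp_left, ← Over.comp_left, e] at h2
  rw [locallyQuasiFinite_iff_finite_preimage_singleton]
  intro y
  rcases Set.eq_empty_or_nonempty ((GIT.psi a (𝟙 X)).left.base ⁻¹' {y}) with he | ⟨p, hp⟩
  · exact he ▸ Set.finite_empty
  · refine ((Scheme.Hom.finite_preimage_singleton (G ◁ ss).left p).image
      ((G ◁ sf).left ≫ (trAct X).act.left).base).subset fun r hr => ?_
    obtain ⟨w, hw1, hw2⟩ := Groth.L14.GITAff.exists_preimage_isPullback h2 r p (hr.trans hp.symm)
    exact ⟨w, hw2, hw1⟩

/-- The orbit map of a geometric point is integral, for a closed action with quasi-finite orbit map. -/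
theorem isIntegralHom_psi [Smooth G.hom] [IsAffine G.left] [IsAffine X.left] [LocallyOfFiniteType X.hom]
    (a : AlgGrp.Action G X) (hc : GIT.IsClosedAction a) [LocallyQuasiFinite (GIT.psi a (𝟙 X)).left]
    (Ω : Type u) [Field Ω] [IsAlgClosed Ω] (T : Over (Spec (CommRingCat.of k)))
    (eT : T.left ≅ Spec (CommRingCat.of Ω)) (x : T ⟶ X) :
    IsIntegralHom (GIT.psi a x).left := by
  haveI : IsAffine T.left := IsAffine.of_isIso eT.hom
  haveI : Subsingleton T.left :=
    eT.hom.homeomorph.injective.subsingleton (β := PrimeSpectrum Ω)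
  haveI : IsAffine (G ⊗ T).left := isAffine_tensor G T
  haveI : IsAffine (X ⊗ T).left := isAffine_tensor X T
  have hb := isPullback_psi a x
  haveI : LocallyQuasiFinite (GIT.psi a x).left :=
    MorphismProperty.of_isPullback (P := @LocallyQuasiFinite) hb inferInstance
  haveI : LocallyOfFiniteType (GIT.psi a x).left := by
    haveI : LocallyOfFiniteType (snd G T).left :=
      MorphismProperty.of_isPullback (P := @LocallyOfFiniteType) (IsPullback.of_hasPullback G.hom T.hom) inferInstance
    haveI : LocallyOfFiniteType ((GIT.psi a x).left ≫ (snd X T).left) := by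
      rw [← Over.comp_left, GIT.psi, lift_snd]; infer_instance
    exact locallyOfFiniteType_of_comp _ (snd X T).left
  set f := GIT.psi a x with hf
  obtain ⟨aN, hN1, hN2⟩ := exists_action f (aP := trAct T) (aQ := fstAct a T) (psi_equivariant a x)
  haveI : IsOpenImmersion (toN f).left := inferInstanceAs (IsOpenImmersion f.left.toNormalization)
  haveI : IsAffine (normObj f).left := isAffine_of_isAffineHom f.left.fromNormalization
  set R := Set.range f.left.base with hR
  have hRc : IsClosed R := hc Ω T eT x
  set D := (Set.range (toN f).left.base)ᶜ with hD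
  have hdense : ∀ d : (normObj f).left, ∃ q, (toN f).left.base q ⤳ d := by
    intro d
    obtain ⟨q, hq, -⟩ := exists_specializes_minimal (toN f).left (y := d) (by
      rw [show closure (Set.range (toN f).left.base) = Set.univ from f.left.toNormalization.denseRange.closure_range]
      trivial)
    exact ⟨q, hq⟩
  have hfN : ∀ q, (fromN f).left.base ((toN f).left.base q) = f.left.base q := fun q => by
    rw [← Scheme.Hom.comp_apply, ← Over.comp_left, toN_fromN]
  suffices hempty : ∀ d, d ∉ D by
    haveI : Surjective (toN f).left := ⟨fun d => not_not.1 (hempty d)⟩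
    haveI : IsIso (toN f).left := (isIso_iff_isOpenImmersion_and_epi_base _).2
      ⟨inferInstance, (TopCat.epi_iff_surjective _).2 (toN f).left.surjective⟩
    rw [← toN_fromN f, Over.comp_left]
    infer_instance
  intro d₀ hd₀
  have hd₀R : (fromN f).left.base d₀ ∈ R := by
    obtain ⟨q, hq⟩ := hdense d₀
    refine (hq.map (fromN f).left.continuous).mem_closed hRc ?_
    rw [hfN]
    exact ⟨q, rfl⟩
  -- every point of the orbit is the image of a point off the open part
  have hcover : ∀ r, ∃ d ∈ D, (fromN f).left.base d = f.left.base r := by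
    intro r
    obtain ⟨r₀, hr₀⟩ := hd₀R
    obtain ⟨q, hq1, hq2⟩ := Scheme.Pullback.exists_preimage_pullback (f := (snd G T).left) (g := (snd G T).left)
      r r₀ (Subsingleton.elim _ _)
    let Qo : Over (Spec (CommRingCat.of k)) :=
      Over.mk (Limits.pullback.fst (snd G T).left (snd G T).left ≫ (G ⊗ T).hom)
    let p₁ : Qo ⟶ G ⊗ T := Over.homMk (Limits.pullback.fst (snd G T).left (snd G T).left) rfl
    let p₂ : Qo ⟶ G ⊗ T := Over.homMk (Limits.pullback.snd (snd G T).left (snd G T).left) (by
      show _ = Limits.pullback.fst (snd G T).left (snd G T).left ≫ (G ⊗ T).hom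
      rw [← Over.w (snd G T), Limits.pullback.condition_assoc])
    have hsnd : p₂ ≫ snd G T = p₁ ≫ snd G T := Over.OverMorphism.ext Limits.pullback.condition.symm
    let h : Qo ⟶ G ⊗ (G ⊗ T) := lift ((p₁ ≫ fst G T) * (p₂ ≫ fst G T)⁻¹) p₂
    have hh : h ≫ (trAct T).act = p₁ := by
      show lift _ p₂ ≫ (α_ G G T).inv ≫ (μ[G] ▷ T) = p₁
      nth_rewrite 2 [← lift_comp_fst_snd p₂]
      rw [mul_translate, inv_mul_cancel_right, hsnd, lift_comp_fst_snd]
    let w := h.left.base q
    have hw1 : (trAct T).act.left.base w = r := by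
      show (h ≫ (trAct T).act).left.base q = r
      rw [hh]; exact hq1
    have hw2 : (snd G (G ⊗ T)).left.base w = r₀ := by
      show (h ≫ snd G (G ⊗ T)).left.base q = r₀
      rw [lift_snd]; exact hq2
    obtain ⟨v, hv1, hv2⟩ := Groth.L14.GITAff.exists_preimage_isPullback
      (Groth.L18.GITQ.isPullback_whiskerLeft G (fromN f)) ((G ◁ f).left.base w) d₀ (by
        rw [← Scheme.Hom.comp_apply, ← Over.comp_left, whiskerLeft_snd, Over.comp_left, Scheme.Hom.comp_apply, hw2]
        exact hr₀)
    refine ⟨aN.act.left.base v, image_compl_range (trAct T) aN hN2 ⟨v, ?_, rfl⟩, ?_⟩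
    · show (snd G (normObj f)).left.base v ∈ D
      rw [hv2]; exact hd₀
    · calc (fromN f).left.base (aN.act.left.base v) = (aN.act ≫ fromN f).left.base v := rfl
        _ = ((fstAct a T).act).left.base ((G ◁ fromN f).left.base v) := by rw [hN1]; rfl
        _ = ((G ◁ f) ≫ (fstAct a T).act).left.base w := by rw [hv1]; rfl
        _ = ((trAct T).act ≫ f).left.base w := by rw [hf, psi_equivariant a x]
        _ = f.left.base r := by rw [Over.comp_left, Scheme.Hom.comp_apply, hw1]
  -- a minimal point of the orbit
  obtain ⟨r, -, hmin⟩ := exists_specializes_minimal f.left (y := (fromN f).left.base d₀) (subset_closure hd₀R)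
  obtain ⟨d, hd, hdr⟩ := hcover r
  obtain ⟨q, hq⟩ := hdense d
  refine hd ⟨q, eq_of_specializes (fromN f).left hq ?_⟩
  rw [hdr, hfN]
  refine hmin _ (subset_closure ⟨q, rfl⟩) ?_
  rw [← hfN, ← hdr]
  exact hq.map (fromN f).left.continuous

end Groth.L14.GITProper
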