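import Groth.Agent.L14.GITProper.Global
import Groth.Agent.L14.GITLin.Finset

/-!
# The properly stable locus
-/

set_option autoImplicit false
set_option linter.style.haveILetI false
set_option backward.isDefEq.respectTransparency false
set_option backward.isDefEq.respectTransparency.types false

noncomputable section

universe u

open CategoryTheory MonoidalCategory CartesianMonoidalCategory MonObj AlgebraicGeometry TopologicalSpace

namespace Groth.L14.GITProper

variable {k : Type u} [Field k] {G X : Over (Spec (CommRingCat.of k))} [GrpObj G] (a : AlgGrp.Action G X)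

variable [LocallyOfFiniteType G.hom] [IsSeparated G.hom] [LocallyOfFiniteType X.hom] [QuasiCompact X.hom]

theorem locallyOfFiniteType_stabTo : LocallyOfFiniteType (GLinSh.stabTo a (𝟙 X)) := by
  haveI : LocallyOfFiniteType ((GIT.psi a (𝟙 X)).left ≫ (snd X X).left) := by
    rw [← Over.comp_left, GIT.psi, lift_snd]
    exact MorphismProperty.of_isPullback (P := @LocallyOfFiniteType) (IsPullback.of_hasPullback G.hom X.hom)
      inferInstance
  haveI := locallyOfFiniteType_of_comp (GIT.psi a (𝟙 X)).left (snd X X).left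
  exact inferInstanceAs (LocallyOfFiniteType (Limits.pullback.snd _ _))

theorem quasiCompact_stabTo [QuasiCompact G.hom] : QuasiCompact (GLinSh.stabTo a (𝟙 X)) := by
  haveI : QuasiSeparated X.hom := by
    haveI : IsLocallyNoetherian X.left := LocallyOfFiniteType.isLocallyNoetherian X.hom
    infer_instance
  haveI : QuasiSeparated (snd X X).left :=
    MorphismProperty.of_isPullback (P := @QuasiSeparated) (IsPullback.of_hasPullback X.hom X.hom) inferInstance
  haveI : QuasiCompact ((GIT.psi a (𝟙 X)).left ≫ (snd X X).left) := by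
    rw [← Over.comp_left, GIT.psi, lift_snd]
    exact MorphismProperty.of_isPullback (P := @QuasiCompact) (IsPullback.of_hasPullback G.hom X.hom)
      inferInstance
  haveI := QuasiCompact.of_comp (GIT.psi a (𝟙 X)).left (snd X X).left
  exact inferInstanceAs (QuasiCompact (Limits.pullback.snd _ _))

/-- Stabilisers of dimension zero are finite sets. -/
theorem krullDim_stab_le_zero_iff [QuasiCompact G.hom] (x : X.left) :
    topologicalKrullDim (GLinSh.stab a (Over.homMk (X.left.fromSpecResidueField x) rfl :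
        Over.mk (X.left.fromSpecResidueField x ≫ X.hom) ⟶ X)) ≤ 0 ↔
      (GLinSh.stabTo a (𝟙 X) ⁻¹' {x}).Finite := by
  rw [Groth.L18.GITStab.krullDim_stab_eq]
  let q := GLinSh.stabTo a (𝟙 X)
  haveI : LocallyOfFiniteType q := locallyOfFiniteType_stabTo a
  haveI : QuasiCompact q := quasiCompact_stabTo a
  haveI : LocallyOfFiniteType (q.fiberToSpecResidueField x) :=
    inferInstanceAs (LocallyOfFiniteType (Limits.pullback.snd _ _))
  haveI : IsLocallyNoetherian (q.fiber x) := LocallyOfFiniteType.isLocallyNoetherian (q.fiberToSpecResidueField x)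
  haveI : JacobsonSpace (q.fiber x) := LocallyOfFiniteType.jacobsonSpace (q.fiberToSpecResidueField x)
  haveI : CompactSpace (q.fiber x) := by
    haveI : QuasiCompact (q.fiberToSpecResidueField x) := inferInstanceAs (QuasiCompact (Limits.pullback.snd _ _))
    exact QuasiCompact.compactSpace_of_compactSpace (q.fiberToSpecResidueField x)
  rw [← Set.finite_coe_iff]
  constructor
  · intro h
    haveI := IsLocallyArtinian.of_topologicalKrullDim_le_zero h
    haveI : Finite (q.fiber x) := finite_of_compact_of_discrete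
    exact Finite.of_equiv _ (q.fiberHomeo x).toEquiv
  · intro h
    haveI := h
    haveI : Finite (q.fiber x) := Finite.of_equiv _ (q.fiberHomeo x).toEquiv.symm
    exact topologicalKrullDim_zero_of_discreteTopology _

/-- The open locus of finite stabilisers. -/
theorem exists_finLocus [QuasiCompact G.hom] :
    ∃ S₀ : X.left.Opens, (∀ x, x ∈ S₀ ↔ (GLinSh.stabTo a (𝟙 X) ⁻¹' {x}).Finite) ∧
      LocallyQuasiFinite (GLinSh.stabTo a (𝟙 X) ∣_ S₀) ∧
      ∀ x, x ∈ S₀ ↔ ∀ (Ω : Type u) [Field Ω] [IsAlgClosed Ω] (T : Over (Spec (CommRingCat.of k)))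
        (_ : T.left ≅ Spec (CommRingCat.of Ω)) (f : T ⟶ X),
        Set.range f.left.base = {x} → IsFinite (GLinSh.stabTo a f) := by
  let q := GLinSh.stabTo a (𝟙 X)
  haveI : LocallyOfFiniteType q := locallyOfFiniteType_stabTo a
  haveI : QuasiCompact q := quasiCompact_stabTo a
  have hcl := Groth.L18.GITStab.isClosed_setOf_le a ((1 : ℕ) : WithBot ℕ∞)
  let S₀ : X.left.Opens := ⟨_, hcl.isOpen_compl⟩
  have hmem : ∀ x, x ∈ S₀ ↔ (q ⁻¹' {x}).Finite := by
    intro x
    rw [← krullDim_stab_le_zero_iff a x]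
    show ¬ (((1 : ℕ) : WithBot ℕ∞) ≤ _) ↔ _
    generalize topologicalKrullDim (GLinSh.stab a (Over.homMk (X.left.fromSpecResidueField x) rfl :
        Over.mk (X.left.fromSpecResidueField x ≫ X.hom) ⟶ X)) = d
    rw [not_le]
    induction d with
    | bot => exact iff_of_true (WithBot.bot_lt_coe _) bot_le
    | coe d =>
      rw [show ((1 : ℕ) : WithBot ℕ∞) = ((1 : ℕ∞) : WithBot ℕ∞) from rfl,
        show (0 : WithBot ℕ∞) = ((0 : ℕ∞) : WithBot ℕ∞) from rfl, WithBot.coe_lt_coe, WithBot.coe_le_coe]
      exact Order.lt_one_iff_nonpos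
  haveI hlqf : LocallyQuasiFinite (q ∣_ S₀) := by
    rw [locallyQuasiFinite_iff_finite_preimage_singleton]
    intro y
    refine (((hmem y.1).1 y.2).preimage (q ⁻¹ᵁ S₀).ι.isOpenEmbedding.injective.injOn).subset fun z hz => ?_
    show q.base ((q ⁻¹ᵁ S₀).ι.base z) = y.1
    rw [← Scheme.Hom.comp_apply, ← morphismRestrict_ι, Scheme.Hom.comp_apply, show (q ∣_ S₀).base z = y from hz]
    rfl
  refine ⟨S₀, hmem, hlqf, fun x => ⟨fun hx Ω _ _ T eT f hf => ?_, fun h => ?_⟩⟩
  · obtain ⟨s, hs⟩ := Groth.L18.GITStab.exists_isPullback_stab a f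
    have hr : Set.range f.left.base ⊆ Set.range S₀.ι.base := by
      rw [hf, Scheme.Opens.range_ι]; exact Set.singleton_subset_iff.2 hx
    let f' : T.left ⟶ S₀.toScheme := IsOpenImmersion.lift S₀.ι f.left hr
    have hf' : f' ≫ S₀.ι = f.left := IsOpenImmersion.lift_fac _ _ _
    have hS := (isPullback_morphismRestrict q S₀)
    let s' : GLinSh.stab a f ⟶ (q ⁻¹ᵁ S₀).toScheme := hS.lift (GLinSh.stabTo a f ≫ f') s (by
      rw [Category.assoc, hf']; exact hs.w.symm)
    have hs' : IsPullback s' (GLinSh.stabTo a f) (q ∣_ S₀) f' := by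
      refine IsPullback.of_right ?_ (hS.lift_fst _ _ _) hS.flip
      rw [hS.lift_snd, hf']
      exact hs
    haveI : LocallyQuasiFinite (GLinSh.stabTo a f) :=
      MorphismProperty.of_isPullback (P := @LocallyQuasiFinite) hs' hlqf
    haveI : QuasiCompact (GLinSh.stabTo a f) :=
      MorphismProperty.of_isPullback (P := @QuasiCompact) hs inferInstance
    haveI : IsLocallyArtinian T.left := by
      haveI : IsLocallyArtinian (Spec (CommRingCat.of Ω)) := Scheme.isLocallyArtinianScheme_Spec.2 inferInstance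
      exact IsLocallyArtinian.of_isImmersion eT.hom
    exact IsFinite.of_locallyQuasiFinite _
  · rw [hmem]
    let Ω := AlgebraicClosure (X.left.residueField x)
    let i : Spec (CommRingCat.of Ω) ⟶ X.left :=
      Spec.map (CommRingCat.ofHom (algebraMap (X.left.residueField x) Ω)) ≫ X.left.fromSpecResidueField x
    let T : Over (Spec (CommRingCat.of k)) := Over.mk (i ≫ X.hom)
    let f : T ⟶ X := Over.homMk i rfl
    have hi : ∀ t, i.base t = x := fun t => by
      have : i.base t ∈ Set.range (X.left.fromSpecResidueField x).base := ⟨_, rfl⟩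
      rwa [Scheme.range_fromSpecResidueField] at this
    haveI : Finite T.left := inferInstanceAs (Finite (PrimeSpectrum Ω))
    haveI := h Ω T (Iso.refl _) f (Set.Subset.antisymm (by rintro _ ⟨t, rfl⟩; exact hi t)
      (Set.singleton_subset_iff.2 ⟨IsLocalRing.closedPoint Ω, hi _⟩))
    obtain ⟨s, hs⟩ := Groth.L18.GITStab.exists_isPullback_stab a f
    have hfin : (Set.univ : Set (GLinSh.stab a f)).Finite := by
      have := (GLinSh.stabTo a f).finite_preimage (s := (Set.univ : Set T.left)) Set.finite_univ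
      rwa [Set.preimage_univ] at this
    refine (hfin.image s.base).subset fun z hz => ?_
    obtain ⟨w, hw, -⟩ := Groth.L14.GITAff.exists_preimage_isPullback hs z (IsLocalRing.closedPoint Ω)
      (hz.trans (hi _).symm)
    exact ⟨w, trivial, hw⟩

/-- The stable locus is open and invariant. -/
theorem exists_sLocus_open (B : GLinSh.LinBun G a) :
    ∃ Us : X.left.Opens, (Us : Set X.left) = B.sLocus ∧ a.act.left ⁻¹ᵁ Us = (snd G X).left ⁻¹ᵁ Us := by
  have h : ∀ x : B.sLocus, ∃ (n : ℕ) (g : Γ(B.V.left, ⊤)) (hg : B.IsInvSection n g),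
      x.1 ∈ GLinSh.nonvanishing B.π g ∧ GLinSh.nonvanishing B.π g ⊆ B.sLocus := by
    rintro ⟨x, n, g, hn, hg, hx, W, hW, haff, hcl⟩
    exact ⟨n, g, hg, hx, fun z hz => ⟨n, g, hn, hg, hz, W, hW, haff, hcl⟩⟩
  choose n g hg hx hsub using h
  refine ⟨⨆ x : B.sLocus, Groth.L14.GITLin.nv B.atlas (hg x).1, Set.Subset.antisymm ?_ ?_, ?_⟩
  · intro z hz
    obtain ⟨x, hzx⟩ := Opens.mem_iSup.1 hz
    exact hsub x hzx
  · exact fun z hz => Opens.mem_iSup.2 ⟨⟨z, hz⟩, hx ⟨z, hz⟩⟩
  · rw [Scheme.Hom.preimage_iSup, Scheme.Hom.preimage_iSup]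
    exact iSup_congr fun x => Groth.L14.GITLin.preimage_nv (hg x).1 (hg x).2

end Groth.L14.GITProper
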