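import Groth.Agent.L14.GITProper.PsLocus
import Groth.Agent.L14.GITLin.Stable

/-!
# The action on the properly stable locus is proper
-/

set_option autoImplicit false
set_option linter.style.haveILetI false
set_option backward.isDefEq.respectTransparency false
set_option backward.isDefEq.respectTransparency.types false

noncomputable section

universe u

open CategoryTheory MonoidalCategory CartesianMonoidalCategory MonObj AlgebraicGeometry TopologicalSpace

namespace Groth.L14.GITProper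

variable {k : Type u} [Field k] {G X : Over (Spec (CommRingCat.of k))} [GrpObj G] {a : AlgGrp.Action G X}

/-- An open invariant under a given restricted action has the same preimage by action and projection. -/
theorem mem_iff_of_restrict (U : X.left.Opens) (aP : AlgGrp.Action G (Over.mk (U.ι ≫ X.hom)))
    (jU : Over.mk (U.ι ≫ X.hom) ⟶ X) (hjU : jU.left = U.ι) (haP : aP.act ≫ jU = (G ◁ jU) ≫ a.act)
    (r : (G ⊗ X).left) (hr : (snd G X).left.base r ∈ U) : a.act.left.base r ∈ U := by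
  obtain ⟨x, hx⟩ : (snd G X).left.base r ∈ Set.range jU.left.base := by rw [hjU]; exact (Scheme.Opens.range_ι U).ge hr
  obtain ⟨v, hv, -⟩ := Groth.L14.GITAff.exists_preimage_isPullback
    (Groth.L18.GITQ.isPullback_whiskerLeft G jU) r x hx.symm
  rw [← hv]
  show ((G ◁ jU) ≫ a.act).left.base v ∈ U
  rw [← haP, Over.comp_left, hjU]
  exact (aP.act.left.base v).2

/-- An invariant open is stable under moving along the action in both directions. -/
theorem mem_iff_of_restrict' (U : X.left.Opens) (aP : AlgGrp.Action G (Over.mk (U.ι ≫ X.hom)))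
    (jU : Over.mk (U.ι ≫ X.hom) ⟶ X) (hjU : jU.left = U.ι) (haP : aP.act ≫ jU = (G ◁ jU) ≫ a.act)
    (r : (G ⊗ X).left) : (snd G X).left.base r ∈ U ↔ a.act.left.base r ∈ U := by
  refine ⟨mem_iff_of_restrict U aP jU hjU haP r, fun hr => ?_⟩
  let c : G ⊗ X ⟶ G ⊗ X := lift (fst G X)⁻¹ a.act
  have h1 : c ≫ snd G X = a.act := lift_snd _ _
  have h2 : c ≫ a.act = snd G X := by
    show lift (fst G X)⁻¹ a.act ≫ a.act = _
    rw [show lift (fst G X)⁻¹ a.act = lift (fst G X)⁻¹ (lift (fst G X) (snd G X) ≫ a.act) by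
      rw [lift_fst_snd, Category.id_comp]]
    rw [Groth.L14.GITAff.act_act', inv_mul_cancel, Groth.L14.GITAff.act_one']
  have := mem_iff_of_restrict U aP jU hjU haP (c.left.base r) (by
    show (c ≫ snd G X).left.base r ∈ U
    rwa [h1])
  change (c ≫ a.act).left.base r ∈ U at this
  rwa [h2] at this

/-- **The properly stable locus.** -/
theorem exists_proper_psLocus [CharZero k] (hG : Red.IsReductive G) [LocallyOfFiniteType X.hom] [QuasiCompact X.hom]
    (B : GLinSh.LinBun G a) :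
    ∃ U : X.left.Opens, (U : Set X.left) = B.psLocus ∧
      ∀ (aP : AlgGrp.Action G (Over.mk (U.ι ≫ X.hom))) (jU : Over.mk (U.ι ≫ X.hom) ⟶ X),
        jU.left = U.ι → aP.act ≫ jU = (G ◁ jU) ≫ a.act →
          IsProper (GIT.psi aP (𝟙 (Over.mk (U.ι ≫ X.hom)))).left := by
  haveI : Smooth G.hom := hG.2.1
  haveI : IsAffineHom G.hom := hG.1
  obtain ⟨Us, hUs, hUsinv⟩ := exists_sLocus_open a B
  obtain ⟨S₀, -, hlqf, hS₀⟩ := exists_finLocus a
  obtain ⟨U, hU⟩ : ∃ U : X.left.Opens, U = Us ⊓ S₀ := ⟨_, rfl⟩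
  have hUle : U ≤ Us := hU.le.trans inf_le_left
  refine ⟨U, Set.ext fun x => ?_, fun aP jU hjU haP => ?_⟩
  · subst hU
    show x ∈ Us ∧ x ∈ S₀ ↔ B.IsStablePt x ∧ _
    exact and_congr (Set.ext_iff.1 hUs x) (hS₀ x)
  -- the semi-stable locus and the quotient of the stable locus
  have hopen : IsOpen B.ssLocus := by
    refine isOpen_iff_forall_mem_open.2 fun x hx => ?_
    obtain ⟨n, g, hn, hg, hxg, W, hW, haff⟩ := hx
    exact ⟨W, fun z hz => ⟨n, g, hn, hg, hW.le hz, W, hW, haff⟩, W.2, hW.ge hxg⟩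
  let Uss : X.left.Opens := ⟨_, hopen⟩
  obtain ⟨N, J, _, f, hf, -, -, hdom⟩ := Groth.L14.GITLin.exists_data (B := B) Uss rfl
  have hssinv : a.act.left ⁻¹ᵁ Uss = (snd G X).left ⁻¹ᵁ Uss := by
    rw [← hdom, Groth.L14.GITLin.dom, Scheme.Hom.preimage_iSup, Scheme.Hom.preimage_iSup]
    exact iSup_congr fun i => Groth.L14.GITLin.preimage_nv (hf i).1 (hf i).2
  obtain ⟨aU, haU⟩ := Groth.L14.GITLin.restrict_action Uss hssinv
  obtain ⟨Y, φ, hu, haffφ, -, hsepY, -, -⟩ := Groth.L14.GITLin.exists_quotient hG Uss rfl aU _ rfl haU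
  have hle : Us ≤ Uss := fun x hx => by
    obtain ⟨n, g, hn, hg, hxg, W, hW, haff, -⟩ := hUs.le hx
    exact ⟨n, g, hn, hg, hxg, W, hW, haff⟩
  obtain ⟨aS, haS⟩ := Groth.L14.GITLin.restrict_action Us hUsinv
  obtain ⟨Yt, φs, hfac, hpre, hgeo⟩ :=
    Groth.L14.GITLin.exists_stable_quotient hG Uss rfl aU _ rfl haU Y φ hu.1 Us hUs hle aS _ rfl haS
  let XS : Over (Spec (CommRingCat.of k)) := Over.mk (Us.ι ≫ X.hom)
  let YS : Over (Spec (CommRingCat.of k)) := Over.mk (Yt.ι ≫ Y.hom)
  let jS : XS ⟶ X := Over.homMk Us.ι rfl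
  haveI : IsSeparated YS.hom := by
    haveI := hsepY
    exact inferInstanceAs (IsSeparated (Yt.ι ≫ Y.hom))
  haveI : IsAffineHom φs.left := by
    haveI := haffφ
    haveI : IsOpenImmersion (X.left.homOfLE hle) := inferInstance
    exact MorphismProperty.of_isPullback (P := @IsAffineHom)
      (IsOpenImmersion.isPullback φs.left (X.left.homOfLE hle) Yt.ι φ.left hfac.symm
        (by rw [Scheme.Opens.opensRange_ι, Scheme.opensRange_homOfLE, hpre])).flip haffφ
  haveI : IsOpenImmersion jU.left := by rw [hjU]; infer_instance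
  haveI : IsOpenImmersion jS.left := inferInstanceAs (IsOpenImmersion Us.ι)
  let jUS : Over.mk (U.ι ≫ X.hom) ⟶ XS := Over.homMk (X.left.homOfLE hUle) (by
    show X.left.homOfLE hUle ≫ Us.ι ≫ X.hom = U.ι ≫ X.hom
    rw [Scheme.homOfLE_ι_assoc])
  haveI : IsOpenImmersion jUS.left := inferInstanceAs (IsOpenImmersion (X.left.homOfLE hUle))
  have hjUS : jUS ≫ jS = jU := Over.OverMorphism.ext (by
    show X.left.homOfLE hUle ≫ Us.ι = jU.left
    rw [hjU, Scheme.homOfLE_ι])
  haveI : Mono jS := Over.mono_of_mono_left jS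
  have hcompat : aP.act ≫ jUS = (G ◁ jUS) ≫ aS.act := by
    rw [← cancel_mono jS, Category.assoc, Category.assoc, hjUS, haS, haP,
      ← MonoidalCategory.whiskerLeft_comp_assoc, hjUS]
  -- saturation
  set R : Set XS.left := Set.range jUS.left.base with hR
  have hRmem : ∀ w : XS.left, w ∈ R ↔ w.1 ∈ U := fun w => by
    show w ∈ (X.left.homOfLE hUle).opensRange ↔ _
    rw [Scheme.opensRange_homOfLE]
    rfl
  have hsat : φs.left.base ⁻¹' (φs.left.base '' R) = R := by
    refine Set.Subset.antisymm ?_ (Set.subset_preimage_image _ _)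
    rintro y ⟨y', hy', he⟩
    obtain ⟨z, hz1, hz2⟩ := Scheme.Pullback.exists_preimage_pullback (f := φs.left) (g := φs.left) y y' he.symm
    obtain ⟨r, rfl⟩ := hgeo.1.orbit z
    rw [← Scheme.Hom.comp_apply, GIT.PsiY, Limits.pullback.lift_fst] at hz1
    rw [← Scheme.Hom.comp_apply, GIT.PsiY, Limits.pullback.lift_snd] at hz2
    rw [hRmem] at hy' ⊢
    have e1 : a.act.left.base ((G ◁ jS).left.base r) = y.1 := by
      rw [← hz1]
      exact congrArg (fun q : G ⊗ XS ⟶ X => q.left.base r) haS.symm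
    have e2 : (snd G X).left.base ((G ◁ jS).left.base r) = y'.1 := by
      rw [← hz2]
      exact congrArg (fun q : G ⊗ XS ⟶ X => q.left.base r) (whiskerLeft_snd G jS)
    rw [← e1]
    exact mem_iff_of_restrict U aP jU hjU haP _ (e2 ▸ hy')
  have hVopen : IsOpen (φs.left.base '' R) := by
    have hq : Topology.IsQuotientMap φs.left.base :=
      MorphismProperty.universally_le _ _ hgeo.1.subm
    rw [← hq.isOpen_preimage, hsat]
    exact jUS.left.isOpenEmbedding.isOpen_range
  let V : YS.left.Opens := ⟨_, hVopen⟩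
  let YV : Over (Spec (CommRingCat.of k)) := Over.mk (V.ι ≫ YS.hom)
  let φ' : Over.mk (U.ι ≫ X.hom) ⟶ YV := Over.homMk (IsOpenImmersion.lift V.ι (jUS ≫ φs).left (by
    rintro _ ⟨w, rfl⟩
    exact (Scheme.Opens.range_ι V).ge ⟨jUS.left.base w, ⟨w, rfl⟩, rfl⟩)) (by
    show IsOpenImmersion.lift V.ι _ _ ≫ V.ι ≫ YS.hom = _
    rw [IsOpenImmersion.lift_fac_assoc, Over.w (jUS ≫ φs)])
  have hsq : jUS.left ≫ φs.left = φ'.left ≫ V.ι := (IsOpenImmersion.lift_fac _ _ _).symm
  haveI : IsAffineHom φ'.left :=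
    MorphismProperty.of_isPullback (P := @IsAffineHom)
      (IsOpenImmersion.isPullback φ'.left jUS.left V.ι φs.left hsq (by
        rw [Scheme.Opens.opensRange_ι]
        exact Opens.ext hsat)).flip inferInstance
  haveI : IsSeparated YV.hom := inferInstanceAs (IsSeparated (V.ι ≫ YS.hom))
  have hinv : GIT.IsInvariant aP φ' := by
    let jV : YV ⟶ YS := Over.homMk V.ι rfl
    haveI : IsOpenImmersion jV.left := inferInstanceAs (IsOpenImmersion V.ι)
    haveI : Mono jV := Over.mono_of_mono_left jV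
    have hsq' : φ' ≫ jV = jUS ≫ φs := Over.OverMorphism.ext hsq.symm
    rw [GIT.IsInvariant, ← cancel_mono jV, Category.assoc, Category.assoc, hsq', reassoc_of% hcompat, hgeo.1.inv,
      whiskerLeft_snd_assoc]
  -- stabilisers
  haveI : LocallyOfFiniteType (Over.mk (U.ι ≫ X.hom)).hom := inferInstanceAs (LocallyOfFiniteType (U.ι ≫ X.hom))
  haveI : LocallyQuasiFinite (GLinSh.stabTo a jU) := by
    obtain ⟨s, hs⟩ := Groth.L18.GITStab.exists_isPullback_stab a jU
    let g : U.toScheme ⟶ S₀.toScheme := X.left.homOfLE (hU.le.trans inf_le_right)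
    have hg : g ≫ S₀.ι = jU.left := by rw [hjU]; exact Scheme.homOfLE_ι _ _
    have hS := isPullback_morphismRestrict (GLinSh.stabTo a (𝟙 X)) S₀
    let s' : GLinSh.stab a jU ⟶ (GLinSh.stabTo a (𝟙 X) ⁻¹ᵁ S₀).toScheme :=
      hS.lift (GLinSh.stabTo a jU ≫ g) s (by rw [Category.assoc, hg]; exact hs.w.symm)
    have hs' : IsPullback s' (GLinSh.stabTo a jU) (GLinSh.stabTo a (𝟙 X) ∣_ S₀) g := by
      refine IsPullback.of_right ?_ (hS.lift_fst _ _ _) hS.flip
      rw [hS.lift_snd, hg]
      exact hs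
    exact MorphismProperty.of_isPullback (P := @LocallyQuasiFinite) hs' hlqf
  haveI := locallyQuasiFinite_stab_of_stabTo (a := a) jU haP
  exact isProper_psi hG aP φ' hinv
    (isClosedAction_restrict jUS hcompat (Groth.L14.GITAff.isClosedAction_of_isGeomQuot aS φs hgeo.1))

end Groth.L14.GITProper
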